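import Groth.Agent.NegVanish.Depth
import Groth.Agent.DimFormulaIrr.Basic

/-!
# The dimension of projective space
-/

set_option autoImplicit false
set_option backward.isDefEq.respectTransparency false

universe u

open CategoryTheory AlgebraicGeometry TopologicalSpace HomogeneousLocalization

namespace Groth.Agent.DimProj

theorem dim_proj (k : Type u) [Field k] (n : ℕ) :
    topologicalKrullDim ↥(Proj (CohB1.polyGrading n k)) = (n : WithBot ℕ∞) := by
  refine le_antisymm ?_ ?_
  · rw [DimFormulaIrr.topologicalKrullDim_eq_iSup]
    exact iSup_le fun p => (NegVanish.stalk_regular (n := n) (k := k) p).2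
  · obtain ⟨e⟩ := NegVanish.nonempty_chartEquiv (n := n) (k := k) 0
    have h1 : ringKrullDim (Away (CohB1.polyGrading n k) (MvPolynomial.X 0)) = (n : WithBot ℕ∞) := by
      rw [← ringKrullDim_eq_of_ringEquiv e, MvPolynomial.ringKrullDim_of_isNoetherianRing,
        ringKrullDim_eq_zero_of_field, zero_add]
      simp
    rw [← h1, ← PrimeSpectrum.topologicalKrullDim_eq_ringKrullDim]
    exact (Proj.awayι (CohB1.polyGrading n k) (MvPolynomial.X 0) (ProjPoint.X_mem 0)
      one_pos).isOpenEmbedding.isInducing.topologicalKrullDim_le

end Groth.Agent.DimProj
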